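import Mathlib.RingTheory.MvPolynomial.Homogeneous
import Mathlib.LinearAlgebra.Projectivization.Basic
import Mathlib.LinearAlgebra.Dual.Lemmas
import Mathlib.LinearAlgebra.FiniteDimensional.Lemmas
import Mathlib.Data.Set.Card

/-!
# Finite point sets with the Cayley–Bacharach property for products of linear forms
-/

set_option autoImplicit false

universe u

open Module

namespace CBPointsLib

variable {k : Type u} [Field k] {V : Type u} [AddCommGroup V] [Module k V] {P : Type u} (v : P → V)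

/-- Cayley–Bacharach for products of `n` linear forms. -/
def CB (Z : Finset P) (n : ℕ) : Prop :=
  ∀ z ∈ Z, ∀ φ : Fin n → Dual k V, (∀ z' ∈ Z, z' ≠ z → ∃ i, φ i (v z') = 0) → ∃ i, φ i (v z) = 0

/-- Distinct indices give different lines. -/
def Indep : Prop := ∀ z z' : P, z ≠ z' → v z ∉ Submodule.span k {v z'}

variable {v}

/-- The points outside a subspace. -/
noncomputable def out (v : P → V) (Z : Finset P) (H : Submodule k V) : Finset P := by
  classical exact Z.filter fun z => v z ∉ H

/-- The points inside a subspace. -/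
noncomputable def ins (v : P → V) (Z : Finset P) (H : Submodule k V) : Finset P := by
  classical exact Z.filter fun z => v z ∈ H

theorem mem_out {Z : Finset P} {H : Submodule k V} {z : P} : z ∈ out v Z H ↔ z ∈ Z ∧ v z ∉ H := by
  classical simp [out]

theorem mem_ins {Z : Finset P} {H : Submodule k V} {z : P} : z ∈ ins v Z H ↔ z ∈ Z ∧ v z ∈ H := by
  classical simp [ins]

theorem card_split (Z : Finset P) (H : Submodule k V) : (ins v Z H).card + (out v Z H).card = Z.card := by
  classical
  simp only [ins, out]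
  exact Finset.card_filter_add_card_filter_not _

theorem CB.out {Z : Finset P} {n : ℕ} (h : CB (k := k) v Z (n + 1)) (H : Submodule k V) :
    CB (k := k) v (out v Z H) n := by
  intro z hz φ hφ
  obtain ⟨hzZ, hzH⟩ := mem_out.1 hz
  obtain ⟨ψ, hψ, hψH⟩ := Submodule.exists_dual_map_eq_bot_of_notMem hzH inferInstance
  obtain ⟨i, hi⟩ := h z hzZ (Fin.cons ψ φ) fun z' hz' hne => by
    by_cases h' : v z' ∈ H
    · exact ⟨0, by simpa [hψH] using Submodule.mem_map_of_mem (f := ψ) h'⟩
    · obtain ⟨i, hi⟩ := hφ z' (mem_out.2 ⟨hz', h'⟩) hne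
      exact ⟨i.succ, by simpa using hi⟩
  refine Fin.cases (fun e => absurd e ?_) (fun i e => ⟨i, ?_⟩) i hi
  · simpa using hψ
  · simpa using e

theorem two_le_card {Z : Finset P} (hv : ∀ z, v z ≠ 0) (hne : Z.Nonempty) {n : ℕ} (h : CB (k := k) v Z n) : 2 ≤ Z.card := by
  classical
  obtain ⟨z, hz⟩ := hne
  by_contra hc
  have hone : ∀ z' ∈ Z, z' = z := fun z' hz' => Finset.card_le_one.1 (by omega) z' hz' z hz
  obtain ⟨ψ, hψ, -⟩ := Submodule.exists_dual_map_eq_bot_of_notMem (p := (⊥ : Submodule k V)) (x := v z) (by simpa using hv z) inferInstance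
  obtain ⟨i, hi⟩ := h z hz (fun _ => ψ) fun z' hz' hne' => absurd (hone z' hz') hne'
  exact hψ hi

theorem ne_zero_of_indep (hv : Indep (k := k) v) {z z' : P} (h : z ≠ z') : v z ≠ 0 := fun e => hv z z' h (e ▸ Submodule.zero_mem _)

theorem card_ge (hv : Indep (k := k) v) (hv0 : ∀ z, v z ≠ 0) : ∀ (n : ℕ) {Z : Finset P}, Z.Nonempty → CB (k := k) v Z n → n + 2 ≤ Z.card := by
  classical
  intro n
  induction n with
  | zero => exact fun hne h => two_le_card hv0 hne h
  | succ n ih =>
    intro Z hne h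
    obtain ⟨z, hz, z', hz', hzz⟩ := Finset.one_lt_card.1 (two_le_card hv0 hne h)
    have h1 := ih ⟨z', mem_out.2 ⟨hz', hv z' z hzz.symm⟩⟩ (h.out (Submodule.span k {v z}))
    have h2 : 1 ≤ (ins v Z (Submodule.span k {v z})).card :=
      Finset.card_pos.2 ⟨z, mem_ins.2 ⟨hz, Submodule.mem_span_singleton_self _⟩⟩
    have h3 := card_split (v := v) Z (Submodule.span k {v z})
    omega

section
variable [FiniteDimensional k V]

theorem finrank_sup_singleton (W : Submodule k V) (x : V) (hx : x ∉ W) :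
    finrank k (W ⊔ Submodule.span k {x} : Submodule k V) = finrank k W + 1 := by
  have h1 := Submodule.finrank_lt_finrank_of_lt (show W < W ⊔ Submodule.span k {x} from
    lt_of_le_of_ne le_sup_left fun e => hx (e.symm ▸ Submodule.mem_sup_right (Submodule.mem_span_singleton_self x)))
  have h2 := Submodule.finrank_add_le_finrank_add_finrank W (Submodule.span k {x})
  have h3 : finrank k (Submodule.span k {x}) ≤ 1 := (finrank_span_le_card _).trans (by simp)
  omega

theorem exists_ge_finrank (W : Submodule k V) {m : ℕ} (h1 : finrank k W ≤ m) (h2 : m ≤ finrank k V) :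
    ∃ W' : Submodule k V, W ≤ W' ∧ finrank k W' = m := by
  induction m, h1 using Nat.le_induction with
  | base => exact ⟨W, le_rfl, rfl⟩
  | succ j _ ih =>
    obtain ⟨W', hle, hr⟩ := ih (Nat.le_of_succ_le h2)
    obtain ⟨x, hx⟩ : ∃ x, x ∉ W' := by
      by_contra! h
      rw [Submodule.eq_top_iff'.2 h, finrank_top] at hr
      omega
    exact ⟨_, hle.trans le_sup_left, by rw [finrank_sup_singleton W' x hx, hr]⟩

theorem finrank_pair (hv : Indep (k := k) v) (hv0 : ∀ z, v z ≠ 0) {a b : P} (h : a ≠ b) :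
    finrank k (Submodule.span k {v a} ⊔ Submodule.span k {v b} : Submodule k V) = 2 := by
  rw [finrank_sup_singleton _ _ (hv b a h.symm), finrank_span_singleton (hv0 a)]

theorem eq_of_pair (hv : Indep (k := k) v) (hv0 : ∀ z, v z ≠ 0) {a b : P} (h : a ≠ b) {W : Submodule k V}
    (hW : finrank k W = 2) (ha : v a ∈ W) (hb : v b ∈ W) :
    Submodule.span k {v a} ⊔ Submodule.span k {v b} = W :=
  Submodule.eq_of_le_of_finrank_eq (sup_le ((Submodule.span_singleton_le_iff_mem _ _).2 ha) ((Submodule.span_singleton_le_iff_mem _ _).2 hb))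
    ((finrank_pair hv hv0 h).trans hW.symm)

theorem collinear (hv : Indep (k := k) v) (hv0 : ∀ z, v z ≠ 0) : ∀ (n : ℕ) {Z : Finset P}, Z.Nonempty → CB (k := k) v Z n →
    Z.card ≤ 2 * n + 1 → ∃ W : Submodule k V, finrank k W = 2 ∧ ∀ z ∈ Z, v z ∈ W := by
  classical
  intro n
  induction n with
  | zero => intro Z hne h hc; have := two_le_card hv0 hne h; omega
  | succ n ih =>
    intro Z hne h hc
    obtain ⟨a, ha, b, hb, hab⟩ := Finset.one_lt_card.1 (two_le_card hv0 hne h)
    by_contra! hno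
    let W : Submodule k V := Submodule.span k {v a} ⊔ Submodule.span k {v b}
    obtain ⟨c, hc', hcW⟩ := hno W (finrank_pair hv hv0 hab)
    have h2 : 2 ≤ (ins v Z W).card := Finset.one_lt_card.2 ⟨a, mem_ins.2 ⟨ha, Submodule.mem_sup_left (Submodule.mem_span_singleton_self _)⟩,
      b, mem_ins.2 ⟨hb, Submodule.mem_sup_right (Submodule.mem_span_singleton_self _)⟩, hab⟩
    have h3 := card_split (v := v) Z W
    have hne' : (out v Z W).Nonempty := ⟨c, mem_out.2 ⟨hc', hcW⟩⟩
    obtain ⟨W', hW', hall⟩ := ih hne' (h.out W) (by omega)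
    obtain ⟨d, hd, hdW'⟩ := hno W' hW'
    have h4 := card_ge hv hv0 n hne' (h.out W)
    have h5 := card_ge hv hv0 n ⟨d, mem_out.2 ⟨hd, hdW'⟩⟩ (h.out W')
    have h6 := card_split (v := v) Z W'
    have h7 : (out v Z W).card ≤ (ins v Z W').card :=
      Finset.card_le_card fun z hz => mem_ins.2 ⟨(mem_out.1 hz).1, hall z hz⟩
    omega

/-- All points in a subspace of dimension at most three. -/
def Coplanar (k : Type u) [Field k] [Module k V] (v : P → V) (Z : Finset P) : Prop :=
  ∃ W : Submodule k V, finrank k W ≤ 3 ∧ ∀ z ∈ Z, v z ∈ W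

/-- All points on two skew lines, with the lower bounds. -/
def Skew (k : Type u) [Field k] [Module k V] (v : P → V) (Z : Finset P) (n : ℕ) : Prop :=
  ∃ W₁ W₂ : Submodule k V, finrank k W₁ = 2 ∧ finrank k W₂ = 2 ∧ W₁ ⊓ W₂ = ⊥ ∧ (∀ z ∈ Z, v z ∈ W₁ ∨ v z ∈ W₂) ∧
    n + 1 ≤ (ins v Z W₁).card ∧ n + 1 ≤ (ins v Z W₂).card ∧ 2 * n + 3 ≤ Z.card

theorem main (hv : Indep (k := k) v) (hv0 : ∀ z, v z ≠ 0) (hdim : 3 ≤ finrank k V) :
    ∀ (n : ℕ) {Z : Finset P}, CB (k := k) v Z n → Z.card ≤ 3 * n + 1 → Coplanar k v Z ∨ Skew k v Z n := by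
  classical
  intro n
  induction n with
  | zero =>
    intro Z h hc
    refine Or.inl ⟨⊥, by simp, fun z hz => ?_⟩
    have := two_le_card hv0 ⟨z, hz⟩ h
    omega
  | succ n ih =>
    intro Z h hc
    rcases Classical.em (Coplanar k v Z) with hco | hco
    · exact Or.inl hco
    right
    simp only [Coplanar, not_exists, not_and, not_forall, exists_prop] at hco
    -- three points
    obtain ⟨a, ha, -⟩ := hco ⊥ (by simp)
    obtain ⟨b, hb, hba⟩ := hco (Submodule.span k {v a}) ((finrank_span_le_card _).trans (by simp))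
    have hab : a ≠ b := fun e => hba (e ▸ Submodule.mem_span_singleton_self _)
    obtain ⟨c, hc', hcab⟩ := hco (Submodule.span k {v a} ⊔ Submodule.span k {v b}) (by rw [finrank_pair hv hv0 hab]; omega)
    -- the best plane
    obtain ⟨m, hm, hmax⟩ : ∃ m : Submodule k V, finrank k m = 3 ∧
        ∀ H : Submodule k V, finrank k H ≤ 3 → (ins v Z H).card ≤ (ins v Z m).card := by
      let S : Set ℕ := {c | ∃ H : Submodule k V, finrank k H = 3 ∧ (ins v Z H).card = c}
      have hS : S.Finite := (Set.finite_Iic Z.card).subset fun c ⟨H, _, e⟩ => e ▸ (Finset.card_le_card fun z hz => (mem_ins.1 hz).1 : (ins v Z H).card ≤ Z.card)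
      obtain ⟨H0, -, hH0⟩ := exists_ge_finrank (⊥ : Submodule k V) (m := 3) (by simp) hdim
      obtain ⟨cm, hcm, hcmax⟩ := hS.exists_maximal ⟨_, H0, hH0, rfl⟩
      obtain ⟨m, hm, rfl⟩ := hcm
      refine ⟨m, hm, fun H hH => ?_⟩
      obtain ⟨H', hle, hH'⟩ := exists_ge_finrank H hH hdim
      have h1 : (ins v Z H).card ≤ (ins v Z H').card :=
        Finset.card_le_card fun z hz => mem_ins.2 ⟨(mem_ins.1 hz).1, hle (mem_ins.1 hz).2⟩
      rcases le_total (ins v Z H').card (ins v Z m).card with h2 | h2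
      · exact h1.trans h2
      · exact h1.trans (hcmax ⟨H', hH', rfl⟩ h2)
    have h3 : 3 ≤ (ins v Z m).card := by
      refine le_trans ?_ (hmax (Submodule.span k {v a} ⊔ Submodule.span k {v b} ⊔ Submodule.span k {v c})
        (by rw [finrank_sup_singleton _ _ hcab, finrank_pair hv hv0 hab]))
      refine le_trans (le_of_eq (Finset.card_eq_three.2 ⟨a, b, c, hab, fun e => hcab (e ▸ Submodule.mem_sup_left (Submodule.mem_span_singleton_self _)),
        fun e => hcab (e ▸ Submodule.mem_sup_right (Submodule.mem_span_singleton_self _)), rfl⟩).symm) (Finset.card_le_card ?_)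
      simp only [Finset.insert_subset_iff, Finset.singleton_subset_iff, mem_ins]
      exact ⟨⟨ha, Submodule.mem_sup_left (Submodule.mem_sup_left (Submodule.mem_span_singleton_self _))⟩,
        ⟨hb, Submodule.mem_sup_left (Submodule.mem_sup_right (Submodule.mem_span_singleton_self _))⟩,
        ⟨hc', Submodule.mem_sup_right (Submodule.mem_span_singleton_self _)⟩⟩
    have hs := card_split (v := v) Z m
    obtain ⟨e, he, hem⟩ := hco m hm.le
    have hRne : (out v Z m).Nonempty := ⟨e, mem_out.2 ⟨he, hem⟩⟩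
    have hR2 := card_ge hv hv0 n hRne (h.out m)
    -- the rest is collinear
    have hsmall : (out v Z m).card ≤ 2 * n + 1 ∧ 1 ≤ n := by
      rcases ih (h.out m) (by omega) with ⟨W, hW, hall⟩ | ⟨W₁, W₂, r₁, r₂, hdis, -, n₁, n₂, ntot⟩
      · have := (Finset.card_le_card (fun z hz => mem_ins.2 ⟨(mem_out.1 hz).1, hall z hz⟩ : out v Z m ⊆ ins v Z W)).trans (hmax W hW)
        omega
      · exfalso
        obtain ⟨x, hx⟩ : (ins v (out v Z m) W₂).Nonempty := Finset.card_pos.1 (by omega)
        have hxW : v x ∉ W₁ := fun hh => hv0 x ((Submodule.mem_bot k).1 (hdis ▸ (⟨hh, (mem_ins.1 hx).2⟩ : v x ∈ W₁ ⊓ W₂)))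
        have := hmax (W₁ ⊔ Submodule.span k {v x}) (by rw [finrank_sup_singleton _ _ hxW, r₁])
        have hlt : (ins v (out v Z m) W₁).card < (ins v Z (W₁ ⊔ Submodule.span k {v x})).card :=
          Finset.card_lt_card ⟨fun z hz => mem_ins.2 ⟨(mem_out.1 (mem_ins.1 hz).1).1, Submodule.mem_sup_left (mem_ins.1 hz).2⟩,
            fun hss => hxW (mem_ins.1 (hss (mem_ins.2 ⟨(mem_out.1 (mem_ins.1 hx).1).1,
              Submodule.mem_sup_right (Submodule.mem_span_singleton_self _)⟩))).2⟩
        omega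
    obtain ⟨hsmall, hn⟩ := hsmall
    obtain ⟨L, hL, hLall⟩ := collinear hv hv0 n hRne (h.out m) hsmall
    have hLc : n + 2 ≤ (ins v Z L).card :=
      hR2.trans (Finset.card_le_card fun z hz => mem_ins.2 ⟨(mem_out.1 hz).1, hLall z hz⟩)
    -- the second line
    obtain ⟨x, hx, hxL⟩ := hco L (by omega)
    let P₁ : Submodule k V := L ⊔ Submodule.span k {v x}
    obtain ⟨y, hy, hyP⟩ := hco P₁ (by rw [finrank_sup_singleton _ _ hxL, hL])
    have hP1 : (ins v Z L).card + 1 ≤ (ins v Z P₁).card := by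
      refine Nat.succ_le_of_lt (Finset.card_lt_card ⟨fun z hz => mem_ins.2 ⟨(mem_ins.1 hz).1, Submodule.mem_sup_left (mem_ins.1 hz).2⟩, fun hss => ?_⟩)
      exact hxL (mem_ins.1 (hss (mem_ins.2 ⟨hx, Submodule.mem_sup_right (Submodule.mem_span_singleton_self _)⟩))).2
    have hs1 := card_split (v := v) Z P₁
    have hne1 : (out v Z P₁).Nonempty := ⟨y, mem_out.2 ⟨hy, hyP⟩⟩
    obtain ⟨M, hM, hMall⟩ := collinear hv hv0 n hne1 (h.out P₁) (by omega)
    have hMc' := card_ge hv hv0 n hne1 (h.out P₁)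
    have hsubM : out v Z P₁ ⊆ ins v Z M := fun z hz => mem_ins.2 ⟨(mem_out.1 hz).1, hMall z hz⟩
    have hMc : n + 2 ≤ (ins v Z M).card := hMc'.trans (Finset.card_le_card hsubM)
    have hdisj : Disjoint (ins v Z L) (out v Z P₁) := Finset.disjoint_left.2 fun z hz hz' =>
      (mem_out.1 hz').2 (Submodule.mem_sup_left (mem_ins.1 hz).2)
    have hskew : L ⊓ M = ⊥ := by
      by_contra hLM
      have hr : finrank k (L ⊔ M : Submodule k V) ≤ 3 := by
        have := Submodule.finrank_sup_add_finrank_inf_eq L M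
        have : finrank k (L ⊓ M : Submodule k V) ≠ 0 := fun e => hLM (Submodule.finrank_eq_zero.1 e)
        omega
      obtain ⟨q, hq, hqW⟩ := hco _ hr
      have h1 := card_ge hv hv0 n ⟨q, mem_out.2 ⟨hq, hqW⟩⟩ (h.out (L ⊔ M))
      have h2 := card_split (v := v) Z (L ⊔ M)
      have h4 : (ins v Z L ∪ out v Z P₁).card ≤ (ins v Z (L ⊔ M)).card := Finset.card_le_card fun z hz => by
        rcases Finset.mem_union.1 hz with hz | hz
        · exact mem_ins.2 ⟨(mem_ins.1 hz).1, Submodule.mem_sup_left (mem_ins.1 hz).2⟩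
        · exact mem_ins.2 ⟨(mem_out.1 hz).1, Submodule.mem_sup_right (hMall z hz)⟩
      rw [Finset.card_union_of_disjoint hdisj] at h4
      omega
    -- a plane through a line and a point of the other line contains no further point of the latter
    have honly : ∀ (A B : Submodule k V), finrank k A = 2 → finrank k B = 2 → A ⊓ B = ⊥ → ∀ p ∈ ins v Z B, ∀ q ∈ ins v Z B,
        v q ∈ A ⊔ Submodule.span k {v p} → q = p := by
      intro A B hA hB hAB p hp q hq hmem
      by_contra hqp
      have hle : A ⊔ B ≤ A ⊔ Submodule.span k {v p} := by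
        refine sup_le le_sup_left ?_
        rw [← eq_of_pair hv hv0 (Ne.symm hqp) hB (mem_ins.1 hp).2 (mem_ins.1 hq).2]
        exact sup_le le_sup_right ((Submodule.span_singleton_le_iff_mem _ _).2 hmem)
      have h1 := Submodule.finrank_mono hle
      have h2 := Submodule.finrank_sup_add_finrank_inf_eq A B
      have h4 := Submodule.finrank_add_le_finrank_add_finrank A (Submodule.span k {v p})
      have h5 : finrank k (Submodule.span k {v p}) ≤ 1 := (finrank_span_le_card _).trans (by simp)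
      rw [hAB, finrank_bot, hA, hB] at h2
      omega
    have hall : ∀ z ∈ Z, v z ∈ L ∨ v z ∈ M := by
      intro w hw
      by_contra! hw'
      have hQ : finrank k (M ⊔ Submodule.span k {v w} : Submodule k V) = 3 := by rw [finrank_sup_singleton _ _ hw'.2, hM]
      obtain ⟨p, hp, hpQ⟩ : ∃ p ∈ ins v Z L, v p ∉ M ⊔ Submodule.span k {v w} := by
        by_contra! hall'
        obtain ⟨p, hp, q, hq, hpq⟩ := Finset.one_lt_card.1 (show 1 < (ins v Z L).card by omega)
        have h1 := Submodule.finrank_mono (sup_le (show L ≤ M ⊔ Submodule.span k {v w} by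
          rw [← eq_of_pair hv hv0 hpq hL (mem_ins.1 hp).2 (mem_ins.1 hq).2]
          exact sup_le ((Submodule.span_singleton_le_iff_mem _ _).2 (hall' p hp)) ((Submodule.span_singleton_le_iff_mem _ _).2 (hall' q hq))) le_sup_left : L ⊔ M ≤ M ⊔ Submodule.span k {v w})
        have h2 := Submodule.finrank_sup_add_finrank_inf_eq L M
        rw [hskew, finrank_bot, hL, hM] at h2
        omega
      have hpM : v p ∉ M := fun hh => hv0 p ((Submodule.mem_bot k).1 (hskew ▸ (⟨(mem_ins.1 hp).2, hh⟩ : v p ∈ L ⊓ M)))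
      let R : Submodule k V := M ⊔ Submodule.span k {v p}
      have hR : finrank k R = 3 := by rw [finrank_sup_singleton _ _ hpM, hM]
      have hwR : v w ∉ R := fun hh => hpQ (by
        rw [Submodule.eq_of_le_of_finrank_eq (sup_le le_sup_left ((Submodule.span_singleton_le_iff_mem _ _).2 hh)) (hQ.trans hR.symm)]
        exact Submodule.mem_sup_right (Submodule.mem_span_singleton_self _))
      have hcount : (ins v Z M).card + 1 ≤ (ins v Z R).card := by
        refine Nat.succ_le_of_lt (Finset.card_lt_card ⟨fun z hz => mem_ins.2 ⟨(mem_ins.1 hz).1, Submodule.mem_sup_left (mem_ins.1 hz).2⟩, fun hss => ?_⟩)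
        exact hpM (mem_ins.1 (hss (mem_ins.2 ⟨(mem_ins.1 hp).1, Submodule.mem_sup_right (Submodule.mem_span_singleton_self _)⟩))).2
      have hs2 := card_split (v := v) Z R
      obtain ⟨l, hl, hlall⟩ := collinear hv hv0 n ⟨w, mem_out.2 ⟨hw, hwR⟩⟩ (h.out R) (by omega)
      have h2 : 2 ≤ ((ins v Z L).erase p).card := by rw [Finset.card_erase_of_mem hp]; omega
      obtain ⟨q, hq, r, hr, hqr⟩ := Finset.one_lt_card.1 h2
      have hout : ∀ z ∈ (ins v Z L).erase p, v z ∈ l := fun z hz => hlall z (mem_out.2 ⟨(mem_ins.1 (Finset.mem_of_mem_erase hz)).1,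
        fun hh => Finset.ne_of_mem_erase hz (honly M L hM hL (inf_comm L M ▸ hskew) p hp z (Finset.mem_of_mem_erase hz) hh)⟩)
      have := (eq_of_pair hv hv0 hqr hl (hout q hq) (hout r hr)).symm.trans
        (eq_of_pair hv hv0 hqr hL (mem_ins.1 (Finset.mem_of_mem_erase hq)).2 (mem_ins.1 (Finset.mem_of_mem_erase hr)).2)
      exact hw'.1 (this ▸ hlall w (mem_out.2 ⟨hw, hwR⟩))
    have hbig : ∀ (A B : Submodule k V), finrank k A = 2 → finrank k B = 2 → A ⊓ B = ⊥ → (∀ z ∈ Z, v z ∈ A ∨ v z ∈ B) →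
        n + 2 ≤ (ins v Z B).card → n + 3 ≤ (ins v Z B).card := by
      intro A B hA hB hAB hall' hB2
      obtain ⟨p, hp, q, hq, hpq⟩ := Finset.one_lt_card.1 (show 1 < (ins v Z B).card by omega)
      have hsub : out v Z (A ⊔ Submodule.span k {v p}) ⊆ (ins v Z B).erase p := fun z hz => by
        obtain ⟨hzZ, hzR⟩ := mem_out.1 hz
        refine Finset.mem_erase.2 ⟨fun e => hzR (e ▸ Submodule.mem_sup_right (Submodule.mem_span_singleton_self _)), mem_ins.2 ⟨hzZ, ?_⟩⟩
        exact (hall' z hzZ).resolve_left fun hh => hzR (Submodule.mem_sup_left hh)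
      have h1 := card_ge hv hv0 n ⟨q, mem_out.2 ⟨(mem_ins.1 hq).1, fun hh => hpq (honly A B hA hB hAB p hp q hq hh).symm⟩⟩
        (h.out (A ⊔ Submodule.span k {v p}))
      have h2 := (Finset.card_le_card hsub)
      rw [Finset.card_erase_of_mem hp] at h2
      omega
    have hLM := hbig M L hM hL (inf_comm L M ▸ hskew) (fun z hz => (hall z hz).symm) hLc
    have hML := hbig L M hL hM hskew hall hMc
    refine ⟨L, M, hL, hM, hskew, hall, by omega, by omega, ?_⟩
    have hd : Disjoint (ins v Z L) (ins v Z M) := Finset.disjoint_left.2 fun z hz hz' =>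
      hv0 z ((Submodule.mem_bot k).1 (hskew ▸ (⟨(mem_ins.1 hz).2, (mem_ins.1 hz').2⟩ : v z ∈ L ⊓ M)))
    have hu := Finset.card_le_card (Finset.union_subset (s := ins v Z L) (t := ins v Z M) (u := Z)
      (fun z hz => (mem_ins.1 hz).1) (fun z hz => (mem_ins.1 hz).1))
    rw [Finset.card_union_of_disjoint hd] at hu
    omega

end

open MvPolynomial in
/-- The property for forms of degree `n` implies the one for products of `n` linear forms. -/
theorem cb_of_forms {σ : Type} [Fintype σ] [DecidableEq σ] (Z : Finset (Projectivization k (σ → k))) (n : ℕ)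
    (h : ∀ z ∈ Z, ∀ p : MvPolynomial σ k, p.IsHomogeneous n →
      (∀ z' ∈ Z, z' ≠ z → MvPolynomial.eval z'.rep p = 0) → MvPolynomial.eval z.rep p = 0) :
    CB (k := k) (fun z : Projectivization k (σ → k) => z.rep) Z n := by
  intro z hz φ hφ
  have hev : ∀ (w : σ → k) (i : Fin n), eval w (∑ j, C (φ i (Pi.single j 1)) * X j) = φ i w := fun w i => by
    have hw : w = ∑ j, w j • Pi.single j (1 : k) := pi_eq_sum_univ' w
    conv_rhs => rw [hw]
    simp [mul_comm]
  have h1 := h z hz (∏ i, ∑ j, C (φ i (Pi.single j 1)) * X j) ?_ fun z' hz' hne => by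
    obtain ⟨i, hi⟩ := hφ z' hz' hne
    rw [map_prod]
    exact Finset.prod_eq_zero (Finset.mem_univ i) ((hev _ i).trans hi)
  · rw [map_prod, Finset.prod_eq_zero_iff] at h1
    obtain ⟨i, -, hi⟩ := h1
    exact ⟨i, (hev _ i).symm.trans hi⟩
  · simpa using IsHomogeneous.prod Finset.univ (fun i => ∑ j, C (φ i (Pi.single j 1)) * X j) (fun _ => 1)
      fun i _ => IsHomogeneous.sum _ _ _ fun j _ => (isHomogeneous_X k j).C_mul _

theorem indep_rep {W : Type u} [AddCommGroup W] [Module k W] : Indep (k := k) (fun z : Projectivization k W => z.rep) := by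
  intro z z' hne hmem
  obtain ⟨c, hc⟩ := Submodule.mem_span_singleton.1 hmem
  apply hne
  rw [← z.mk_rep, ← z'.mk_rep, Projectivization.mk_eq_mk_iff']
  exact ⟨c, hc⟩

theorem submodule_le {W : Type u} [AddCommGroup W] [Module k W] (z : Projectivization k W) (U : Submodule k W) :
    z.submodule ≤ U ↔ z.rep ∈ U := by
  rw [Projectivization.submodule_eq, Submodule.span_singleton_le_iff_mem]

end CBPointsLib
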